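import Cfsg.Agent.Spor.S85A1.D0

set_option autoImplicit false
set_option maxRecDepth 100000000
set_option Elab.async false

namespace Cfsg.Agent.Spor.S85A1

theorem ok0 : Net.okb 1 n0 = true := by decide +kernel

theorem ok1 : Net.okb 1 n1 = true := by decide +kernel

theorem ok2 : Net.okb 1 n2 = true := by decide +kernel

theorem ok3 : Net.okb 1 n3 = true := by decide +kernel

theorem ok4 : Net.okb 1 n4 = true := by decide +kernel

theorem rel0 : T.rel 1 [1, 1] 0 1 = true := by decide +kernel

theorem rel1 : T.rel 1 [2, 2] 0 1 = true := by decide +kernel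

theorem rel2 : T.rel 1 [3, 3] 0 1 = true := by decide +kernel

theorem rel3 : T.rel 1 [4, 4] 0 1 = true := by decide +kernel

theorem rel4 : T.rel 1 [1, 4, 1, 4] 0 1 = true := by decide +kernel

theorem rel5 : T.rel 1 [2, 4, 2, 4, 2, 4] 0 1 = true := by decide +kernel

theorem rel6 : T.rel 1 [1, 2, 1, 2, 1, 2, 1, 2, 4, 2, 1, 2, 1, 2, 1, 2, 1, 2, 4, 2] 0 1 = true := by decide +kernel

theorem rel7 : T.rel 1 [3, 4, 3, 4] 0 1 = true := by decide +kernel

theorem rel8 : T.rel 1 [3, 2, 1, 2, 1, 3, 2, 1, 2, 3, 2, 1, 2, 1, 2] 0 1 = true := by decide +kernel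

theorem rel9 : T.rel 1 [3, 2, 3, 2, 3, 2] 0 1 = true := by decide +kernel

theorem rel10 : T.rel 1 [3, 2, 1, 2, 4, 2, 1, 3, 2, 4, 1, 2, 3, 4, 1, 2, 1, 2, 4, 2, 1] 0 1 = true := by decide +kernel

theorem rel11 : T.rel 1 [3, 5, 3, 5] 0 1 = true := by decide +kernel

theorem rel12 : T.rel 1 [2, 5, 2, 5] 0 1 = true := by decide +kernel

theorem rel13 : T.rel 1 [1, 5, 1, 6] 0 1 = true := by decide +kernel

theorem rel14 : T.rel 1 [4, 5, 4, 5, 4, 5] 0 1 = true := by decide +kernel

theorem rel15 : T.rel 1 [5, 5, 5] 0 1 = true := by decide +kernel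

theorem rel16 : T.rel 1 [2, 1, 2, 1] 0 1 = true := by decide +kernel

theorem rel17 : T.rel 1 [3, 1, 3, 1] 0 1 = true := by decide +kernel

theorem rel18 : T.rel 1 [4, 1, 4, 1] 0 1 = true := by decide +kernel

theorem rel19 : T.rel 1 [6, 1, 5, 1] 0 1 = true := by decide +kernel

theorem rel20 : T.rel 1 [3, 2, 3, 2] 0 1 = true := by decide +kernel

theorem rel21 : T.rel 1 [4, 2, 4, 2] 0 1 = true := by decide +kernel

theorem rel22 : T.rel 1 [6, 2, 5, 2] 0 1 = true := by decide +kernel

theorem rel23 : T.rel 1 [4, 3, 4, 3] 0 1 = true := by decide +kernel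

theorem rel24 : T.rel 1 [6, 3, 5, 3] 0 1 = true := by decide +kernel

theorem rel25 : T.rel 1 [6, 4, 5, 4] 0 1 = true := by decide +kernel

theorem hcov : T.treeCov (ones 1) L 1 = true := by decide +kernel

theorem hg : lall (fun z => band (memL L z) (band (sub (ones 1) (T.let z).cl) (T.closed (ones 1) z))) gs = true := by decide +kernel

theorem hivk : ivOk (2 * 4) EX IV = true := by decide +kernel

theorem hrt : RT.ok (2 * 4) EX RL = true := by decide +kernel

theorem hdefs : defs F 13 = true := by decide +kernel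

noncomputable def st0_l : List Nat := [nat_lit 0x60000100000003, nat_lit 0x80000100001403, nat_lit 0xe00002000004000050000e00002006, nat_lit 0x1d0000f80000803, nat_lit 0x1000002002, nat_lit 0x1b0000080000c00044000000000d00001800004000230000100000000034000060000100008c0f, nat_lit 0x30001200006c03, nat_lit 0x80009c02, nat_lit 0xa0001480002c03, nat_lit 0x100000600002803, nat_lit 0x88000b4000160000d000088000b406, nat_lit 0x100001780002c03, nat_lit 0x180000b402, nat_lit 0x120000700002803, nat_lit 0x98000d4000160000f000098000d406, nat_lit 0x120001b80002c03, nat_lit 0x1c0000d402, nat_lit 0xec000160002b0001980002c0007600029000058000cc000740002b000050000a4000160003b000058000ac000660000b0001580002815, nat_lit 0x58000f402, nat_lit 0x140001f80005403, nat_lit 0x200000500007c000150002000005006, nat_lit 0xa80010c02, nat_lit 0x160001f80005c03, nat_lit 0x230000580007c000170002300005806, nat_lit 0xb80012402, nat_lit 0x180002280006403, nat_lit 0x180002580006403, nat_lit 0x440000c80013403, nat_lit 0xc00012c000a20004f0000c00012c06, nat_lit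 0xc80014c02]
theorem st0 : band (steps F IV RT base st0_l 13) (Nat.beq (Nat.add 13 (llen st0_l)) 43) = true := by decide +kernel

theorem ep0a : T.treePath [] (Nat.shiftLeft 1 0) 1 = true := by decide +kernel

theorem ep0b : T.treePath [] (Nat.shiftLeft 1 0) 1 = true := by decide +kernel

theorem ep0c : band (lall (fun z => Nat.ble z 255) ([] ++ 1 :: [])) (concl F IV 43 0xa001 (encA ([] ++ 1 :: []) 0)) = true := by decide +kernel

theorem ep0d : band (Rule.ok (2 * 4) EX [] ⟨lapp [] [], [], 0, false⟩) (band (lall (memL L) []) (lall (memL L) [])) = true := by decide +kernel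

theorem cov1 : T.cover 1 [(Nat.shiftLeft 1 0)] = true := by decide +kernel

theorem tl1 : Nat.beq (T.let 1).tt 0 = true := by decide +kernel

theorem ep1a : T.treePath [] (Nat.shiftLeft 1 0) 1 = true := by decide +kernel

theorem ep1b : T.treePath [] (Nat.shiftLeft 1 0) 1 = true := by decide +kernel

theorem ep1c : band (lall (fun z => Nat.ble z 255) ([] ++ 2 :: [])) (concl F IV 43 0xf801 (encA ([] ++ 2 :: []) 0)) = true := by decide +kernel

theorem ep1d : band (Rule.ok (2 * 4) EX [] ⟨lapp [] [], [], 0, false⟩) (band (lall (memL L) []) (lall (memL L) [])) = true := by decide +kernel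

theorem cov2 : T.cover 2 [(Nat.shiftLeft 1 0)] = true := by decide +kernel

theorem tl2 : Nat.beq (T.let 2).tt 0 = true := by decide +kernel

theorem ep2a : T.treePath [] (Nat.shiftLeft 1 0) 1 = true := by decide +kernel

theorem ep2b : T.treePath [] (Nat.shiftLeft 1 0) 1 = true := by decide +kernel

theorem ep2c : band (lall (fun z => Nat.ble z 255) ([] ++ 3 :: [])) (concl F IV 43 0x11001 (encA ([] ++ 3 :: []) 0)) = true := by decide +kernel

theorem ep2d : band (Rule.ok (2 * 4) EX [] ⟨lapp [] [], [], 0, false⟩) (band (lall (memL L) []) (lall (memL L) [])) = true := by decide +kernel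

theorem cov3 : T.cover 3 [(Nat.shiftLeft 1 0)] = true := by decide +kernel

theorem tl3 : Nat.beq (T.let 3).tt 0 = true := by decide +kernel

theorem ep3a : T.treePath [] (Nat.shiftLeft 1 0) 1 = true := by decide +kernel

theorem ep3b : T.treePath [] (Nat.shiftLeft 1 0) 1 = true := by decide +kernel

theorem ep3c : band (lall (fun z => Nat.ble z 255) ([] ++ 4 :: [])) (concl F IV 43 0x12801 (encA ([] ++ 4 :: []) 0)) = true := by decide +kernel

theorem ep3d : band (Rule.ok (2 * 4) EX [] ⟨lapp [] [], [], 0, false⟩) (band (lall (memL L) []) (lall (memL L) [])) = true := by decide +kernel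

theorem cov4 : T.cover 4 [(Nat.shiftLeft 1 0)] = true := by decide +kernel

theorem tl4 : Nat.beq (T.let 4).tt 0 = true := by decide +kernel

theorem ep4a : T.treePath [] (Nat.shiftLeft 1 0) 1 = true := by decide +kernel

theorem ep4b : T.treePath [] (Nat.shiftLeft 1 0) 1 = true := by decide +kernel

theorem ep4c : band (lall (fun z => Nat.ble z 255) ([] ++ 5 :: [])) (concl F IV 43 0x15001 (encA ([] ++ 5 :: []) 0)) = true := by decide +kernel

theorem ep4d : band (Rule.ok (2 * 4) EX [] ⟨lapp [] [], [], 0, false⟩) (band (lall (memL L) []) (lall (memL L) [])) = true := by decide +kernel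

theorem cov5 : T.cover 5 [(Nat.shiftLeft 1 0)] = true := by decide +kernel

theorem tl5 : Nat.beq (T.let 5).tt 0 = true := by decide +kernel

theorem rot6_1 : T.rot 6 [1, 5, 1] (sel (ones 1) ip6 1) = true := by decide +kernel

theorem rot6_1r : band (Rule.ok (2 * 4) EX RL ⟨6 :: [1, 5, 1], [], 15, true⟩) (lall (memL L) [1, 5, 1]) = true := by decide +kernel

theorem cov6 : T.cover 6 [(sel (ones 1) ip6 1)] = true := by decide +kernel

theorem tl6 : Nat.beq (T.let 6).tt 0 = true := by decide +kernel

end Cfsg.Agent.Spor.S85A1
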