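import Cfsg.Agent.Spor.Chk

set_option autoImplicit false
set_option maxRecDepth 100000000
set_option Elab.async false
noncomputable section

namespace Cfsg.Agent.Spor.S85A1

def n0 : Net := Net.nil

def n1 : Net := Net.nil

def n2 : Net := Net.nil

def n3 : Net := Net.nil

def n4 : Net := Net.nil

def ip1 : List Nat := []
def l1 : Let := ⟨0, false, 0x1, 0x0, [0x0]⟩

def ip2 : List Nat := []
def l2 : Let := ⟨1, false, 0x1, 0x0, [0x0]⟩

def ip3 : List Nat := []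
def l3 : Let := ⟨2, false, 0x1, 0x0, [0x0]⟩

def ip4 : List Nat := []
def l4 : Let := ⟨3, false, 0x1, 0x0, [0x0]⟩

def ip5 : List Nat := []
def l5 : Let := ⟨4, false, 0x1, 0x0, [0x0]⟩

def ip6 : List Nat := [0x1]
def l6 : Let := ⟨4, true, 0x1, 0x0, [0x1]⟩

def F : Nat := nat_lit 0x50000000000000000d0000d06000000000d040000d0000d030000d00000040000000000000000c0000c020000c00000030000000000000000b0000b020000b00000020000000000000000600000040000600006000000a00000000000800000040000a0000003000060000600000090000000000070000003000090000601000060000001000000000000000010000200000040000203000010000100000050000200000030000302000050000002000040000d05000000000c04000000000b03000000000a0200008000090200007000080400006000070300006000060200000000050300002000040100002000030300001000020200001000010100000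

def rt0_9 : RTree := RTree.node 0x506 ⟨[5, 6], [], 22, false⟩ (RTree.node 0x303 ⟨[3, 3], [], 22, false⟩ (RTree.node 0x202 ⟨[2, 2], [], 22, false⟩ (RTree.node 0x101 ⟨[1, 1], [], 22, false⟩ (RTree.leaf) (RTree.leaf)) (RTree.leaf)) (RTree.node 0x404 ⟨[4, 4], [], 22, false⟩ (RTree.leaf) (RTree.leaf))) (RTree.node 0x2030203 ⟨[2, 3, 2, 3], [], 16, false⟩ (RTree.node 0x2010201 ⟨[2, 1, 2, 1], [], 12, true⟩ (RTree.node 0x1020102 ⟨[1, 2, 1, 2], [], 12, false⟩ (RTree.leaf) (RTree.leaf)) (RTree.leaf)) (RTree.node 0x2040204 ⟨[2, 4, 2, 4], [], 17, false⟩ (RTree.leaf) (RTree.leaf)))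
def rt10_19 : RTree := RTree.node 0x30203020302 ⟨[3, 2, 3, 2, 3, 2], [], 5, true⟩ (RTree.node 0x4060405 ⟨[4, 6, 4, 5], [], 21, false⟩ (RTree.node 0x4020402 ⟨[4, 2, 4, 2], [], 17, true⟩ (RTree.node 0x3060305 ⟨[3, 6, 3, 5], [], 20, false⟩ (RTree.leaf) (RTree.leaf)) (RTree.leaf)) (RTree.node 0x6030603 ⟨[6, 3, 6, 3], [], 7, false⟩ (RTree.leaf) (RTree.leaf))) (RTree.node 0x30201020102030201020103020102 ⟨[3, 2, 1, 2, 1, 2, 3, 2, 1, 2, 1, 3, 2, 1, 2], [2, 0, 2, 0, 2, 4], 4, true⟩ (RTree.node 0x40504050405 ⟨[4, 5, 4, 5, 4, 5], [], 10, true⟩ (RTree.node 0x40204020402 ⟨[4, 2, 4, 2, 4, 2], [], 1, false⟩ (RTree.leaf) (RTree.leaf)) (RTree.leaf)) (RTree.node 0x20102030102040201020104030201040203010204 ⟨[2, 1, 2, 3, 1, 2, 4, 2, 1, 2, 1, 4, 3, 2, 1, 4, 2, 3, 1, 2, 4], [4, 2, 0, 2], 6, false⟩ (RTree.leaf) (RTree.leaf)))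
def rt0_19 : RTree := RTree.node 0x3020302 ⟨[3, 2, 3, 2], [], 16, true⟩ (rt0_9) (rt10_19)
def RT : RTree := rt0_19

def NT : List Net := [n0, n1, n2, n3, n4]
def LT : List Let := [⟨0, false, 0, 0, []⟩, l1, l2, l3, l4, l5, l6]
def T : Tab := ⟨NT, LT⟩
def EX : List (List Nat) := [[], [0], [2], [4], [6], [8], [9]]
def RL : List (List Nat) := [[6, 0, 6, 0], [6, 2, 6, 2, 6, 2], [2, 6, 2, 0, 2, 0, 2, 0, 2, 0, 2, 6, 2, 0, 2, 0, 2, 0, 2, 0], [6, 4, 6, 4], [2, 0, 2, 0, 2, 4, 2, 0, 2, 4, 0, 2, 0, 2, 4], [2, 4, 2, 4, 2, 4], [0, 2, 6, 2, 0, 2, 0, 6, 4, 2, 0, 6, 2, 4, 0, 2, 6, 2, 0, 2, 4], [8, 4, 8, 4], [8, 2, 8, 2], [9, 0, 8, 0], [8, 6, 8, 6, 8, 6], [8, 8, 8], [0, 2, 0, 2], [0, 4, 0, 4], [0, 6, 0, 6], [0, 8, 0, 9], [2, 4, 2, 4], [2, 6, 2, 6], [2, 8, 2, 9], [4, 6, 4, 6], [4, 8, 4, 9], [6, 8, 6, 9]]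
def XL : List (List Nat) := []
def BW : List (List Nat) := []
def IV : Nat := 0x5060403020100
def L : List Nat := [1, 2, 3, 4, 5, 6]
def gs : List Nat := [1, 2, 3, 4, 5]
def base : List Nat := []

end Cfsg.Agent.Spor.S85A1
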